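import Groth.Agent.P1Sym.Map
import Groth.Agent.PnCoh.Chow.Proper
import Mathlib.AlgebraicGeometry.ZariskisMainTheorem
import Mathlib.AlgebraicGeometry.AlgClosed.Basic
import Mathlib.FieldTheory.IsAlgClosed.AlgebraicClosure

/-!
# The symmetric product of projective lines maps finitely onto projective space
-/

set_option autoImplicit false
set_option backward.isDefEq.respectTransparency false
set_option backward.isDefEq.respectTransparency.types false

universe u

open AlgebraicGeometry CategoryTheory CategoryTheory.Limits TopologicalSpace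

namespace Groth.Agent.P1Sym

theorem isProper_toBase (n : ℕ) (S : Scheme.{u}) : IsProper (CohB1.ProjSpaceOver.toBase n S) :=
  MorphismProperty.pullback_snd _ _ (PnCoh.Chow.isProper_toSpec n _)

theorem isProper_widePullback_base {S Y : Scheme.{u}} (f : Y ⟶ S) [IsProper f] :
    ∀ n : ℕ, IsProper (WidePullback.base (fun _ : Fin n => f))
  | 0 => by
    haveI : IsIso (WidePullback.base (fun _ : Fin 0 => f)) := by
      refine ⟨WidePullback.lift (𝟙 S) (fun i => i.elim0) (fun i => i.elim0), ?_, WidePullback.lift_base ..⟩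
      refine WidePullback.hom_ext _ _ _ (fun i => i.elim0) ?_
      rw [Category.assoc, WidePullback.lift_base, Category.comp_id, Category.id_comp]
    infer_instance
  | n + 1 => by
    haveI := isProper_widePullback_base f n
    let b := WidePullback.base (fun _ : Fin n => f)
    let rest : widePullback S (fun _ : Fin (n + 1) => Y) (fun _ => f) ⟶
        widePullback S (fun _ : Fin n => Y) (fun _ => f) :=
      WidePullback.lift (WidePullback.base _) (fun i => WidePullback.π (fun _ : Fin (n + 1) => f) i.succ)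
        (fun i => WidePullback.π_arrow _ i.succ)
    have hr : rest ≫ b = WidePullback.base (fun _ : Fin (n + 1) => f) := WidePullback.lift_base ..
    have w : WidePullback.π (fun _ : Fin (n + 1) => f) 0 ≫ f = rest ≫ b := by
      rw [hr]; exact WidePullback.π_arrow _ 0
    let a := pullback.lift (WidePullback.π (fun _ : Fin (n + 1) => f) 0) rest w
    let a' : pullback f b ⟶ widePullback S (fun _ : Fin (n + 1) => Y) (fun _ => f) :=
      WidePullback.lift (pullback.snd f b ≫ b)
        (Fin.cases (pullback.fst f b) fun i => pullback.snd f b ≫ WidePullback.π (fun _ : Fin n => f) i)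
        (fun i => by
          induction i using Fin.cases with
          | zero => exact pullback.condition
          | succ i =>
            simp only [Fin.cases_succ, Category.assoc]
            rw [WidePullback.π_arrow (fun _ : Fin n => f) i])
    haveI : IsIso a := by
      refine ⟨a', ?_, ?_⟩
      · refine WidePullback.hom_ext _ _ _ (fun i => ?_) ?_
        · induction i using Fin.cases with
          | zero => simp [a, a']
          | succ i => simp [a, a', rest]
        · simp [a, a', hr, b, rest]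
      · refine pullback.hom_ext ?_ ?_
        · simp [a, a']
        · refine WidePullback.hom_ext _ _ _ (fun i => ?_) ?_
          · simp [a, a', rest]
          · simp [a, a', rest, b]
    rw [← hr, show rest = a ≫ pullback.snd f b from (pullback.lift_snd _ _ _).symm]
    infer_instance

section field

variable {K : Type u} [Field K]

/-- Constants as global sections of the spectrum of a field. -/
noncomputable def cg (K : Type u) [Field K] : K ≃+* Γ(Spec (CommRingCat.of K), ⊤) :=
  (Scheme.ΓSpecIso (CommRingCat.of K)).symm.commRingCatIsoToRingEquiv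

variable {m : ℕ} {W : Scheme.{u}} (π : Fin m → (W ⟶ PZ.{u} 1))

theorem exists_hasCoords (g : Spec (CommRingCat.of K) ⟶ W) :
    ∃ v : Fin m → Fin 2 → K, (∀ i, ∃ j, v i j ≠ 0) ∧ HasCoords π g (fun i j => cg K (v i j)) := by
  let z : Spec (CommRingCat.of K) := IsLocalRing.closedPoint K
  choose j hj using fun i => exists_mem_dp ((g ≫ π i) z)
  obtain ⟨v, hv, hu⟩ := hasCoords_exists_of_dp π (g := g) j (fun i x => by
    rw [show x = z from Subsingleton.elim _ _]; exact hj i)
  refine ⟨fun i k => (cg K).symm (v i k), fun i => ⟨j i, ((hu i).map (cg K).symm).ne_zero⟩, ?_⟩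
  simpa only [RingEquiv.apply_symm_apply] using hv

theorem coef_cg (v : Fin m → Fin 2 → K) (l : Fin (m + 1)) :
    coef (fun i j => cg K (v i j)) l = cg K (coef v l) :=
  (coef_map (cg K).toRingHom v l).symm

theorem isUnit_cg {x : K} (h : x ≠ 0) : IsUnit (cg K x) := (IsUnit.mk0 x h).map (cg K)

theorem comp_eq_ptS {φ : W ⟶ PZ m}
    (hφ : ∀ (T : Scheme.{u}) (g : T ⟶ W) (v : Fin m → Fin 2 → Γ(T, ⊤))
      (_ : HasCoords π g v) (l : Fin (m + 1)) (hu : IsUnit (coef v l)), g ≫ φ = SegreX.ptS (coef v) l hu)
    {g : Spec (CommRingCat.of K) ⟶ W} {v : Fin m → Fin 2 → K}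
    (h : HasCoords π g (fun i j => cg K (v i j))) (l : Fin (m + 1)) (hl : coef v l ≠ 0) :
    g ≫ φ = SegreX.ptS (fun k => cg K (coef v k)) l (isUnit_cg hl) := by
  have hu : IsUnit (coef (fun i j => cg K (v i j)) l) := by rw [coef_cg]; exact isUnit_cg hl
  rw [hφ _ g _ h l hu]
  congr 1
  exact funext (coef_cg v)

/-- Field-valued points over a given one have only finitely many possible coordinates. -/
theorem finite_points (φ : W ⟶ PZ m)
    (hφ : ∀ (T : Scheme.{u}) (g : T ⟶ W) (v : Fin m → Fin 2 → Γ(T, ⊤))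
      (_ : HasCoords π g v) (l : Fin (m + 1)) (hu : IsUnit (coef v l)), g ≫ φ = SegreX.ptS (coef v) l hu)
    (G : Set (Spec (CommRingCat.of K) ⟶ W)) (hG : ∀ g ∈ G, ∀ g' ∈ G, g ≫ φ = g' ≫ φ)
    (hsep : ∀ g ∈ G, ∀ g' ∈ G, (∀ i, g ≫ π i = g' ≫ π i) → g = g') : G.Finite := by
  rcases G.eq_empty_or_nonempty with rfl | ⟨g₀, hg₀⟩
  · exact Set.finite_empty
  choose V hV0 hV using fun g : Spec (CommRingCat.of K) ⟶ W => exists_hasCoords π g
  let B : Set (Option K) := insert none (some '' {r : K | (linProd (V g₀)).IsRoot r})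
  have hB : B.Finite := finite_roots (hV0 g₀)
  refine Set.Finite.of_finite_image (f := fun g i => root (V g i))
    ((Set.Finite.pi' (t := fun _ : Fin m => B) fun _ => hB).subset ?_) ?_
  · rintro _ ⟨g, hg, rfl⟩ i
    obtain ⟨l, hl⟩ := exists_coef_ne_zero (hV0 g)
    obtain ⟨l₀, hl₀⟩ := exists_coef_ne_zero (hV0 g₀)
    obtain ⟨c, hc, hk⟩ := ptS_inj (fun k => cg K (coef (V g₀) k)) (fun k => cg K (coef (V g) k)) l₀ l (isUnit_cg hl₀) (isUnit_cg hl)
      ((comp_eq_ptS π hφ (hV g₀) l₀ hl₀).symm.trans ((hG g₀ hg₀ g hg).trans (comp_eq_ptS π hφ (hV g) l hl)))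
    refine root_mem (hV0 g₀) (c := (cg K).symm c) ((hc.map (cg K).symm).ne_zero) (fun a => ?_) i
    apply (cg K).injective
    rw [map_mul, RingEquiv.apply_symm_apply]
    exact hk a
  · intro g hg g' hg' hgg'
    refine hsep g hg g' hg' fun i => ?_
    obtain ⟨j, hj, e⟩ := hV g i
    obtain ⟨j', hj', e'⟩ := hV g' i
    obtain ⟨c, hc, hcv⟩ := exists_scale_of_root_eq (hV0 g i) (hV0 g' i) (congrFun hgg' i)
    rw [e, e']
    exact SegreX.ptS_scale _ _ (cg K c) (fun a => by rw [← map_mul, ← hcv a]) j' j hj' hj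

end field

set_option backward.isDefEq.respectTransparency true in
set_option backward.isDefEq.respectTransparency.types true in
theorem exists_geometric_point {X : Scheme.{u}} (x : X) :
    ∃ (K : Type u) (_ : Field K) (_ : IsAlgClosed K) (q : Spec (CommRingCat.of K) ⟶ X),
      q (IsLocalRing.closedPoint K) = x :=
  ⟨AlgebraicClosure (X.residueField x), inferInstance, inferInstance,
    Spec.map (CommRingCat.ofHom (algebraMap (X.residueField x) (AlgebraicClosure (X.residueField x)))) ≫
      X.fromSpecResidueField x, by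
    exact Scheme.fromSpecResidueField_apply x _⟩

section main

variable {S : Scheme.{u}} {n : ℕ}

/-- The projection of projective space over a base to the integral one. -/
noncomputable abbrev pr (k : ℕ) (S : Scheme.{u}) : CohB1.ProjSpaceOver k S ⟶ PZ.{u} k := pullback.fst _ _

/-- The components of the product of projective lines. -/
noncomputable abbrev comps (S : Scheme.{u}) (n : ℕ) (i : Fin n) :
    widePullback S (fun _ : Fin n => CohB1.ProjSpaceOver 1 S) (fun _ => CohB1.ProjSpaceOver.toBase 1 S) ⟶ PZ.{u} 1 :=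
  WidePullback.π (fun _ : Fin n => CohB1.ProjSpaceOver.toBase 1 S) i ≫ pr 1 S

variable {φ : widePullback S (fun _ : Fin n => CohB1.ProjSpaceOver 1 S) (fun _ => CohB1.ProjSpaceOver.toBase 1 S) ⟶
  CohB1.ProjSpaceOver n S}
  (hφ₀ : ∀ (T : Scheme.{u}) (g : T ⟶ _) (v : Fin n → Fin 2 → Γ(T, ⊤)) (_ : HasCoords (comps S n) g v)
    (l : Fin (n + 1)) (hu : IsUnit (coef v l)), g ≫ φ ≫ pr n S = SegreX.ptS (coef v) l hu)
  (hφb : φ ≫ CohB1.ProjSpaceOver.toBase n S = WidePullback.base (fun _ => CohB1.ProjSpaceOver.toBase 1 S))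

include hφ₀ hφb in
theorem locallyQuasiFinite_map [LocallyOfFiniteType φ] : LocallyQuasiFinite φ := by
  refine LocallyQuasiFinite.of_finite_preimage_singleton φ fun y => ?_
  obtain ⟨K, _, _, yb, hyb⟩ := exists_geometric_point y
  let Z := pullback φ yb
  let q := pullback.snd φ yb
  have hG : {g : Spec (CommRingCat.of K) ⟶ _ | g ≫ φ = yb}.Finite :=
    finite_points (comps S n) (φ ≫ pr n S) hφ₀ _ (fun g hg g' hg' => by
        rw [reassoc_of% hg, reassoc_of% hg'])
      fun g hg g' hg' h => by
        have hb : g ≫ WidePullback.base (fun _ : Fin n => CohB1.ProjSpaceOver.toBase 1 S) =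
            g' ≫ WidePullback.base (fun _ : Fin n => CohB1.ProjSpaceOver.toBase 1 S) := by
          rw [← hφb, reassoc_of% hg, reassoc_of% hg']
        refine WidePullback.hom_ext _ _ _ (fun i => ?_) hb
        refine pullback.hom_ext (by simpa only [Category.assoc] using h i) ?_
        show (g ≫ _) ≫ CohB1.ProjSpaceOver.toBase 1 S = (g' ≫ _) ≫ CohB1.ProjSpaceOver.toBase 1 S
        rw [Category.assoc, Category.assoc,
          WidePullback.π_arrow (fun _ : Fin n => CohB1.ProjSpaceOver.toBase 1 S) i]
        exact hb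
  have hpts : Finite {p : Spec (CommRingCat.of K) ⟶ Z // p ≫ q = 𝟙 _} := by
    haveI : Finite {g : Spec (CommRingCat.of K) ⟶ _ // g ≫ φ = yb} := hG.to_subtype
    refine Finite.of_injective (β := {g : Spec (CommRingCat.of K) ⟶ _ // g ≫ φ = yb})
      (fun p => ⟨p.1 ≫ pullback.fst φ yb, by rw [Category.assoc, pullback.condition, reassoc_of% p.2]⟩)
      fun p p' h => Subtype.ext (pullback.hom_ext (congrArg Subtype.val h) (p.2.trans p'.2.symm))
  haveI : Finite (closedPoints Z) := Finite.of_equiv _ (pointEquivClosedPoint q)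
  haveI : JacobsonSpace Z := LocallyOfFiniteType.jacobsonSpace q
  have hcl : IsClosed (closedPoints Z) := by
    rw [← Set.biUnion_of_singleton (closedPoints Z)]
    exact (Set.toFinite _).isClosed_biUnion fun _ hx => hx
  have huniv : closedPoints Z = Set.univ := hcl.closure_eq.symm.trans closure_closedPoints
  haveI : Finite Z := Set.finite_univ_iff.1 (huniv ▸ Set.toFinite (closedPoints Z))
  refine (Set.finite_range (pullback.fst φ yb)).subset ?_
  rw [Scheme.Pullback.range_fst]
  intro x (hx : φ x = y)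
  refine ⟨IsLocalRing.closedPoint K, ?_⟩
  rw [hx]
  exact hyb

include hφ₀ hφb in
theorem surjective_map : Surjective φ := ⟨fun y => by
  obtain ⟨K, _, _, yb, hyb⟩ := exists_geometric_point y
  obtain ⟨j, hj⟩ := exists_mem_dp ((yb ≫ pr n S) (IsLocalRing.closedPoint K))
  obtain ⟨w, hwu, hw⟩ := exists_coords (yb ≫ pr n S) j (fun x => by
    rw [show x = IsLocalRing.closedPoint K from Subsingleton.elim _ _]; exact hj)
  obtain ⟨v, a, ha, hv, hva⟩ := exists_linProd (fun k => (cg K).symm (w k)) ⟨j, (hwu.map (cg K).symm).ne_zero⟩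
  choose jv hjv using hv
  let pt : Fin n → (Spec (CommRingCat.of K) ⟶ CohB1.ProjSpaceOver 1 S) := fun i =>
    pullback.lift (SegreX.ptS (fun k => cg K (v i k)) (jv i) (isUnit_cg (hjv i)))
      (yb ≫ CohB1.ProjSpaceOver.toBase n S) (specULiftZIsTerminal.hom_ext _ _)
  let g : Spec (CommRingCat.of K) ⟶ _ :=
    WidePullback.lift (arrows := fun _ : Fin n => CohB1.ProjSpaceOver.toBase 1 S)
      (yb ≫ CohB1.ProjSpaceOver.toBase n S) pt (fun i => pullback.lift_snd _ _ _)
  have hg : HasCoords (comps S n) g (fun i k => cg K (v i k)) := fun i => by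
    refine ⟨jv i, isUnit_cg (hjv i), ?_⟩
    rw [show g ≫ comps S n i = pt i ≫ pr 1 S by rw [← Category.assoc, WidePullback.lift_π]]
    exact pullback.lift_fst _ _ _
  have hl : coef v j ≠ 0 := fun h0 => (hwu.map (cg K).symm).ne_zero (by rw [hva, h0, mul_zero])
  have hgφ : g ≫ φ = yb := by
    refine pullback.hom_ext ?_ ?_
    · show (g ≫ φ) ≫ pr n S = yb ≫ pr n S
      rw [Category.assoc, comp_eq_ptS (comps S n) hφ₀ hg j hl, hw]
      refine (SegreX.ptS_scale _ _ (cg K a) (fun k => ?_) j j _ _).symm
      rw [← map_mul, ← hva, RingEquiv.apply_symm_apply]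
    · show (g ≫ φ) ≫ CohB1.ProjSpaceOver.toBase n S = yb ≫ CohB1.ProjSpaceOver.toBase n S
      rw [Category.assoc, hφb]
      exact WidePullback.lift_base ..
  refine ⟨g (IsLocalRing.closedPoint K), ?_⟩
  rw [← Scheme.Hom.comp_apply, hgφ]
  exact hyb⟩

end main

/-- The map from the product of projective lines by multiplying linear forms is finite and surjective. -/
theorem exists_finite_surjective (S : Scheme.{u}) (n : ℕ) :
    ∃ φ : widePullback S (fun _ : Fin n => CohB1.ProjSpaceOver 1 S) (fun _ => CohB1.ProjSpaceOver.toBase 1 S) ⟶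
        CohB1.ProjSpaceOver n S,
      IsFinite φ ∧ Surjective φ ∧
        φ ≫ CohB1.ProjSpaceOver.toBase n S = WidePullback.base (fun _ => CohB1.ProjSpaceOver.toBase 1 S) := by
  obtain ⟨φ₀, hφ₀⟩ := exists_map (comps S n)
  let φ := (pullback.lift φ₀ (WidePullback.base (fun _ : Fin n => CohB1.ProjSpaceOver.toBase 1 S))
    (specULiftZIsTerminal.hom_ext _ _) : _ ⟶ CohB1.ProjSpaceOver n S)
  have hφb : φ ≫ CohB1.ProjSpaceOver.toBase n S = WidePullback.base _ := pullback.lift_snd _ _ _
  have hφp : φ ≫ pr n S = φ₀ := pullback.lift_fst _ _ _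
  haveI : IsProper φ := by
    haveI := isProper_toBase 1 S
    haveI := isProper_toBase n S
    haveI : IsProper (φ ≫ CohB1.ProjSpaceOver.toBase n S) := by
      rw [hφb]; exact isProper_widePullback_base _ n
    exact IsProper.of_comp φ (CohB1.ProjSpaceOver.toBase n S)
  rw [← hφp] at hφ₀
  haveI := locallyQuasiFinite_map hφ₀ hφb
  exact ⟨φ, IsFinite.of_isProper_of_locallyQuasiFinite φ, surjective_map hφ₀ hφb, hφb⟩

end Groth.Agent.P1Sym
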