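import Mathlib.Algebra.Polynomial.Roots
import Mathlib.Algebra.Polynomial.Splits
import Mathlib.FieldTheory.IsAlgClosed.Basic

/-!
# Coefficients of products of linear forms
-/

set_option autoImplicit false

universe u

open Polynomial

namespace Groth.Agent.P1Sym

variable {R : Type u} [CommRing R] {n : ℕ}

/-- The product of the linear forms with coefficients `v i`. -/
noncomputable def linProd (v : Fin n → Fin 2 → R) : R[X] := ∏ i, (C (v i 0) * X + C (v i 1))

/-- The coefficients of the product of the linear forms. -/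
noncomputable def coef (v : Fin n → Fin 2 → R) (l : Fin (n + 1)) : R := (linProd v).coeff l

theorem natDegree_linProd_le (v : Fin n → Fin 2 → R) : (linProd v).natDegree ≤ n := by
  refine (natDegree_prod_le _ _).trans ?_
  refine (Finset.sum_le_card_nsmul Finset.univ _ 1 fun i _ => natDegree_linear_le).trans ?_
  simp

theorem coef_map {S : Type u} [CommRing S] (g : R →+* S) (v : Fin n → Fin 2 → R) (l : Fin (n + 1)) :
    g (coef v l) = coef (fun i j => g (v i j)) l := by
  rw [coef, coef, linProd, linProd, ← coeff_map, Polynomial.map_prod]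
  simp

theorem coef_scale (v : Fin n → Fin 2 → R) (c : Fin n → R) (l : Fin (n + 1)) :
    coef (fun i j => c i * v i j) l = (∏ i, c i) * coef v l := by
  rw [coef, coef, linProd, linProd, ← coeff_C_mul, map_prod, ← Finset.prod_mul_distrib]
  congr 2
  funext i
  simp [mul_add, mul_assoc]

section domain

variable [IsDomain R]

theorem linProd_ne_zero {v : Fin n → Fin 2 → R} (h : ∀ i, ∃ j, v i j ≠ 0) : linProd v ≠ 0 := by
  refine Finset.prod_ne_zero_iff.2 fun i _ h0 => ?_
  obtain ⟨j, hj⟩ := h i
  refine hj ?_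
  have h1 := congrArg (fun p : R[X] => p.coeff 1) h0
  have h2 := congrArg (fun p : R[X] => p.coeff 0) h0
  simp [coeff_C] at h1 h2
  fin_cases j
  · exact h1
  · exact h2

theorem exists_coef_ne_zero {v : Fin n → Fin 2 → R} (h : ∀ i, ∃ j, v i j ≠ 0) : ∃ l, coef v l ≠ 0 :=
  ⟨⟨(linProd v).natDegree, Nat.lt_succ_of_le (natDegree_linProd_le v)⟩,
    mt leadingCoeff_eq_zero.1 (linProd_ne_zero h)⟩

end domain

variable {K : Type u} [Field K]

/-- The root of a linear form, `none` standing for the point at infinity. -/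
noncomputable def root (v : Fin 2 → K) : Option K := by
  classical exact if v 0 = 0 then none else some (-v 1 / v 0)

theorem exists_scale_of_root_eq {v w : Fin 2 → K} (hv : ∃ j, v j ≠ 0) (hw : ∃ j, w j ≠ 0)
    (h : root v = root w) : ∃ c : K, c ≠ 0 ∧ ∀ j, v j = c * w j := by
  by_cases h0 : v 0 = 0
  · have hw0 : w 0 = 0 := by
      by_contra hw0
      simp [root, h0, hw0] at h
    have hv1 : v 1 ≠ 0 := by
      obtain ⟨j, hj⟩ := hv
      fin_cases j
      · exact absurd h0 hj
      · exact hj
    have hw1 : w 1 ≠ 0 := by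
      obtain ⟨j, hj⟩ := hw
      fin_cases j
      · exact absurd hw0 hj
      · exact hj
    refine ⟨v 1 / w 1, div_ne_zero hv1 hw1, fun j => ?_⟩
    fin_cases j
    · show v 0 = _ * w 0
      rw [h0, hw0, mul_zero]
    · show v 1 = _ * w 1
      rw [div_mul_cancel₀ _ hw1]
  · have hw0 : w 0 ≠ 0 := fun hw0 => by simp [root, h0, hw0] at h
    refine ⟨v 0 / w 0, div_ne_zero h0 hw0, fun j => ?_⟩
    fin_cases j
    · show v 0 = _ * w 0
      rw [div_mul_cancel₀ _ hw0]
    · show v 1 = _ * w 1
      simp [root, h0, hw0, div_eq_div_iff h0 hw0] at h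
      field_simp
      linear_combination h

theorem root_mem {v : Fin n → Fin 2 → K} (hv : ∀ i, ∃ j, v i j ≠ 0) {w : Fin n → Fin 2 → K}
    {c : K} (hc : c ≠ 0) (h : ∀ l, coef w l = c * coef v l) (i : Fin n) :
    root (w i) ∈ insert none (some '' {r : K | (linProd v).IsRoot r}) := by
  by_cases h0 : w i 0 = 0
  · exact Or.inl (by simp [root, h0])
  refine Or.inr ⟨-w i 1 / w i 0, ?_, by simp [root, h0]⟩
  have heq : linProd w = C c * linProd v := by
    ext m
    rw [coeff_C_mul]
    rcases Nat.lt_or_ge n m with hm | hm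
    · rw [coeff_eq_zero_of_natDegree_lt ((natDegree_linProd_le w).trans_lt hm),
        coeff_eq_zero_of_natDegree_lt ((natDegree_linProd_le v).trans_lt hm), mul_zero]
    · exact h ⟨m, Nat.lt_succ_of_le hm⟩
  have h1 : (linProd w).eval (-w i 1 / w i 0) = 0 := by
    rw [linProd, eval_prod]
    refine Finset.prod_eq_zero (Finset.mem_univ i) ?_
    simp only [eval_add, eval_mul, eval_C, eval_X]
    field_simp
    ring
  rw [heq, eval_mul, eval_C] at h1
  exact (mul_eq_zero.1 h1).resolve_left hc

theorem finite_roots {v : Fin n → Fin 2 → K} (hv : ∀ i, ∃ j, v i j ≠ 0) :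
    (insert none (some '' {r : K | (linProd v).IsRoot r})).Finite :=
  ((Polynomial.finite_setOf_isRoot (linProd_ne_zero hv)).image _).insert _

theorem exists_linProd [IsAlgClosed K] (c : Fin (n + 1) → K) (hc : ∃ l, c l ≠ 0) :
    ∃ (v : Fin n → Fin 2 → K) (a : K), a ≠ 0 ∧ (∀ i, ∃ j, v i j ≠ 0) ∧ ∀ l, c l = a * coef v l := by
  classical
  let P : K[X] := ∑ l : Fin (n + 1), C (c l) * X ^ (l : ℕ)
  have hcoef : ∀ l : Fin (n + 1), P.coeff l = c l := fun l => by
    simp [P, coeff_X_pow, Fin.val_inj, Finset.sum_ite_eq]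
  have hP0 : P ≠ 0 := fun h => by
    obtain ⟨l, hl⟩ := hc
    exact hl (by rw [← hcoef l, h, coeff_zero])
  have hdeg : P.natDegree ≤ n := natDegree_sum_le_of_forall_le _ _ fun l _ =>
    (natDegree_C_mul_X_pow_le _ _).trans (Nat.le_of_lt_succ l.2)
  have hsplit := (IsAlgClosed.splits P).eq_prod_roots
  set rs := P.roots.toList with hrs
  have hlen : rs.length ≤ n := by
    rw [hrs, Multiset.length_toList]; exact P.card_roots'.trans hdeg
  let v : Fin n → Fin 2 → K := fun i =>
    if h : (i : ℕ) < rs.length then ![1, -rs[(i : ℕ)]] else ![0, 1]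
  have hv : ∀ i, ∃ j, v i j ≠ 0 := fun i => by
    by_cases h : (i : ℕ) < rs.length
    · exact ⟨0, by simp [v, h]⟩
    · exact ⟨1, by simp [v, h]⟩
  have hprod : linProd v = (P.roots.map fun a => X - C a).prod := by
    have hr : P.roots = (rs : Multiset K) := (Multiset.coe_toList _).symm
    rw [hr, Multiset.map_coe, Multiset.prod_coe, linProd]
    let g : Fin n → K[X] := fun i => if h : (i : ℕ) < rs.length then X - C rs[(i : ℕ)] else 1
    rw [show (fun i => C (v i 0) * X + C (v i 1)) = g from funext fun i => by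
      by_cases h : (i : ℕ) < rs.length
      · simp [v, g, h, sub_eq_add_neg]
      · simp [v, g, h]]
    let G : ℕ → K[X] := fun i => if h : i < rs.length then X - C rs[i] else 1
    rw [show g = fun i : Fin n => G i from rfl, Fin.prod_univ_eq_prod_range G n,
      ← Finset.prod_subset (Finset.range_subset_range.2 hlen) fun i _ hi => dif_neg (by simpa using hi),
      ← Fin.prod_univ_eq_prod_range G]
    rw [← Fin.prod_ofFn]
    simp only [G, Fin.is_lt, dite_true]
    rw [← List.ofFn_getElem_eq_map rs (fun a => X - C a), Fin.prod_ofFn]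
  refine ⟨v, P.leadingCoeff, mt leadingCoeff_eq_zero.1 hP0, hv, fun l => ?_⟩
  rw [coef, ← coeff_C_mul, hprod, ← hsplit, hcoef]

end Groth.Agent.P1Sym
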