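import Groth.Agent.P1Sym.Coef
import Groth.Agent.SegreX.Coord
import Mathlib.AlgebraicGeometry.ResidueField

/-!
# The morphism to projective space given by a product of linear forms
-/

set_option autoImplicit false
set_option backward.isDefEq.respectTransparency false
set_option backward.isDefEq.respectTransparency.types false

universe u

open AlgebraicGeometry CategoryTheory CategoryTheory.Limits TopologicalSpace Groth.Agent.ProjPt

namespace Groth.Agent.P1Sym

/-- Projective space over the integers. -/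
noncomputable abbrev PZ (n : ℕ) : Scheme.{u} := CohB1.ProjSpace n (ULift.{u} ℤ)

/-- The chart where a coordinate does not vanish. -/
noncomputable abbrev dp (n : ℕ) (j : Fin (n + 1)) : (PZ.{u} n).Opens :=
  Proj.basicOpen (CohB1.polyGrading n (ULift.{u} ℤ)) (MvPolynomial.X j)

theorem exists_mem_dp {n : ℕ} (x : PZ.{u} n) : ∃ j, x ∈ dp n j :=
  Opens.mem_iSup.1 (by
    rw [Proj.iSup_basicOpen_eq_top (CohB1.polyGrading n (ULift.{u} ℤ)) MvPolynomial.X (SegreX.irrelevant_le_span n _)]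
    trivial)

variable {n : ℕ} {T T' W : Scheme.{u}}

/-- A morphism landing in a chart has normalised coordinates. -/
theorem exists_coords (t : T ⟶ PZ n) (j : Fin (n + 1)) (h : ∀ x : T, t x ∈ dp n j) :
    ∃ (v : Fin (n + 1) → Γ(T, ⊤)) (hv : IsUnit (v j)), t = SegreX.ptS v j hv := by
  let q := IsOpenImmersion.lift
    (Proj.awayι (CohB1.polyGrading n (ULift.{u} ℤ)) (MvPolynomial.X j) (X_mem j) one_pos) t (by
      rintro _ ⟨x, rfl⟩
      have hx := h x
      unfold dp at hx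
      rw [← Proj.opensRange_awayι _ _ (X_mem j) one_pos] at hx
      exact hx)
  refine ⟨SegreX.coords q, SegreX.coords_self q ▸ isUnit_one, ?_⟩
  rw [← SegreX.chart_eq_ptS]
  exact (IsOpenImmersion.lift_fac _ _ _).symm

/-- Coordinates of the same point are proportional. -/
theorem ptS_inj (v v' : Fin (n + 1) → Γ(T, ⊤)) (i j : Fin (n + 1)) (hi : IsUnit (v i)) (hj : IsUnit (v' j))
    (h : SegreX.ptS v i hi = SegreX.ptS v' j hj) : ∃ c, IsUnit c ∧ ∀ k, v' k = c * v k := by
  let 𝒜 := CohB1.polyGrading n (ULift.{u} ℤ)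
  let f := MvPolynomial.eval₂Hom (SegreX.z0 Γ(T, ⊤)) v
  let f' := MvPolynomial.eval₂Hom (SegreX.z0 Γ(T, ⊤)) v'
  have hfi : IsUnit (f (MvPolynomial.X i)) := by rwa [MvPolynomial.eval₂Hom_X']
  have hfj : IsUnit (f' (MvPolynomial.X j)) := by rwa [MvPolynomial.eval₂Hom_X']
  obtain ⟨c, hc, hk⟩ := exists_unit_of_agree 𝒜 (X_mem i) (X_mem j)
    (T.toSpecΓ ≫ Spec.map (CommRingCat.ofHom (coordHom 𝒜 f hfi)))
    (T.toSpecΓ ≫ Spec.map (CommRingCat.ofHom (coordHom 𝒜 f' hfj)))
    (by simpa [SegreX.ptS, pt] using h) _ _ rfl rfl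
  obtain ⟨a, ha⟩ := hi
  refine ⟨v' j * c * ↑a⁻¹, (hj.mul hc).mul a⁻¹.isUnit, fun k => ?_⟩
  have h1 := coordHom_mk_mul 𝒜 f hfi (X_mem i) 1 (MvPolynomial.X k) (by rw [one_smul]; exact X_mem k)
  have h2 := coordHom_mk_mul 𝒜 f' hfj (X_mem j) 1 (MvPolynomial.X k) (by rw [one_smul]; exact X_mem k)
  rw [hk _ (X_mem k), MvPolynomial.eval₂Hom_X', MvPolynomial.eval₂Hom_X', pow_one] at h2
  rw [MvPolynomial.eval₂Hom_X', MvPolynomial.eval₂Hom_X', pow_one] at h1
  rw [← h2, ← h1, ← ha]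
  linear_combination (v' j * c *
    coordHom 𝒜 f hfi (HomogeneousLocalization.Away.mk 𝒜 (X_mem i) 1 (MvPolynomial.X k) (by rw [one_smul]; exact X_mem k)))
      * (-(a.inv_mul))

variable {m : ℕ} (π : Fin m → (W ⟶ PZ.{u} 1))

/-- Homogeneous coordinates of the components of a morphism. -/
def HasCoords (g : T ⟶ W) (v : Fin m → Fin 2 → Γ(T, ⊤)) : Prop :=
  ∀ i, ∃ (j : Fin 2) (hu : IsUnit (v i j)), g ≫ π i = SegreX.ptS (v i) j hu

theorem HasCoords.comp {g : T ⟶ W} {v : Fin m → Fin 2 → Γ(T, ⊤)} (h : HasCoords π g v) (a : T' ⟶ T) :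
    HasCoords π (a ≫ g) (fun i j => a.appTop (v i j)) := fun i => by
  obtain ⟨j, hu, e⟩ := h i
  exact ⟨j, hu.map a.appTop.hom, by rw [Category.assoc, e, SegreX.comp_ptS]⟩

theorem HasCoords.exists_scale {g : T ⟶ W} {v v' : Fin m → Fin 2 → Γ(T, ⊤)} (h : HasCoords π g v)
    (h' : HasCoords π g v') : ∃ c, ∀ l, coef v' l = c * coef v l := by
  have : ∀ i, ∃ c, ∀ j, v' i j = c * v i j := fun i => by
    obtain ⟨j, hu, e⟩ := h i
    obtain ⟨j', hu', e'⟩ := h' i
    obtain ⟨c, -, hc⟩ := ptS_inj (v i) (v' i) j j' hu hu' (e.symm.trans e')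
    exact ⟨c, hc⟩
  choose c hc using this
  refine ⟨∏ i, c i, fun l => ?_⟩
  rw [← coef_scale, show v' = fun i j => c i * v i j from funext fun i => funext (hc i)]

theorem hasCoords_exists_of_dp {g : T ⟶ W} (j : Fin m → Fin 2) (h : ∀ i (x : T), (g ≫ π i) x ∈ dp 1 (j i)) :
    ∃ v, HasCoords π g v ∧ ∀ i, IsUnit (v i (j i)) := by
  choose v hv e using fun i => exists_coords (g ≫ π i) (j i) (h i)
  exact ⟨v, fun i => ⟨j i, hv i, e i⟩, hv⟩

/-- A point where the coefficients are not all zero. -/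
theorem exists_mem_basicOpen_coef {v : Fin m → Fin 2 → Γ(T, ⊤)} (hv : ∀ i, ∃ j, IsUnit (v i j)) (x : T) :
    ∃ l, x ∈ T.basicOpen (coef v l) := by
  let ev := (T.evaluation ⊤ x trivial).hom
  obtain ⟨l, hl⟩ := exists_coef_ne_zero (v := fun i j => ev (v i j)) fun i => by
    obtain ⟨j, hj⟩ := hv i
    exact ⟨j, (hj.map ev).ne_zero⟩
  rw [← coef_map ev] at hl
  exact ⟨l, (T.evaluation_ne_zero_iff_mem_basicOpen x (show x ∈ (⊤ : T.Opens) from trivial) _).1 hl⟩

/-- The morphism given by the product of the linear forms. -/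
theorem exists_map : ∃ φ : W ⟶ PZ m, ∀ (T : Scheme.{u}) (g : T ⟶ W) (v : Fin m → Fin 2 → Γ(T, ⊤))
    (_ : HasCoords π g v) (l : Fin (m + 1)) (hu : IsUnit (coef v l)), g ≫ φ = SegreX.ptS (coef v) l hu := by
  choose j hj using fun (x : W) (i : Fin m) => exists_mem_dp (π i x)
  let U : W → W.Opens := fun x => ⟨⋂ i, (π i ⁻¹ᵁ dp 1 (j x i) : Set W), isOpen_iInter_of_finite fun i => Opens.isOpen _⟩
  have hxU : ∀ x, x ∈ U x := fun x => Set.mem_iInter.2 fun i => hj x i
  choose v hv hvu using fun x : W => hasCoords_exists_of_dp π (g := (U x).ι) (j x)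
    (fun i z => Set.mem_iInter.1 z.2 i)
  choose l hl using fun x : W =>
    exists_mem_basicOpen_coef (v := v x) (fun i => ⟨_, hvu x i⟩) (⟨x, hxU x⟩ : (U x).toScheme)
  let V : ∀ x : W, (U x).toScheme.Opens := fun x => (U x).toScheme.basicOpen (coef (v x) (l x))
  let F : ∀ x : W, (V x).toScheme ⟶ W := fun x => (V x).ι ≫ (U x).ι
  let w : ∀ x : W, Fin m → Fin 2 → Γ((V x).toScheme, ⊤) := fun x i k => (V x).ι.appTop (v x i k)
  have hw : ∀ x, HasCoords π (F x) (w x) := fun x => (hv x).comp π (V x).ι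
  have hwu : ∀ x, IsUnit (coef (w x) (l x)) := fun x => by
    rw [← coef_map]
    have hb : (V x).toScheme.basicOpen ((V x).ι.appTop (coef (v x) (l x))) = ⊤ := by
      rw [← Scheme.preimage_basicOpen_top]
      exact (V x).ι_preimage_self
    refine RingedSpace.isUnit_of_isUnit_germ _ _ _ fun z hz => ?_
    exact ((V x).toScheme.mem_basicOpen _ z hz).1 (hb.ge trivial)
  let 𝒰 : W.OpenCover :=
    .mkOfCovers W (fun x => (V x).toScheme) F (fun x => ⟨x, ⟨⟨x, hxU x⟩, hl x⟩, rfl⟩) (fun x => inferInstance)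
  have key : ∀ {T : Scheme.{u}} (x : W) (p : T ⟶ (V x).toScheme) (t : Fin m → Fin 2 → Γ(T, ⊤))
      (_ : HasCoords π (p ≫ F x) t) (k : Fin (m + 1)) (hk : IsUnit (coef t k)),
      p ≫ SegreX.ptS (coef (w x)) (l x) (hwu x) = SegreX.ptS (coef t) k hk := by
    intro T x p t ht k hk
    rw [SegreX.comp_ptS]
    obtain ⟨c, hc⟩ := ((hw x).comp π p).exists_scale π ht
    refine (SegreX.ptS_scale _ _ c (fun a => ?_) (l x) k _ _).symm
    rw [hc a, coef_map]
  let φ : W ⟶ PZ m := 𝒰.glueMorphisms (fun x => SegreX.ptS (coef (w x)) (l x) (hwu x)) fun x y => by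
    have h1 : HasCoords π (pullback.fst (F x) (F y) ≫ F x)
        (fun i k => (pullback.snd (F x) (F y)).appTop (w y i k)) := by
      rw [pullback.condition]
      exact (hw y).comp π _
    have hu : IsUnit (coef (fun i k => (pullback.snd (F x) (F y)).appTop (w y i k)) (l y)) := by
      rw [← coef_map (pullback.snd (F x) (F y)).appTop.hom]
      exact (hwu y).map _
    exact (key x _ _ h1 _ hu).trans (key y _ _ ((hw y).comp π _) _ hu).symm
  refine ⟨φ, fun T g t ht k hk => ?_⟩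
  refine Scheme.Cover.hom_ext (𝒰.pullback₁ g) _ _ fun x => ?_
  show pullback.fst g (F x) ≫ g ≫ φ = pullback.fst g (F x) ≫ _
  rw [← Category.assoc, pullback.condition, Category.assoc, SegreX.comp_ptS]
  rw [show F x ≫ φ = SegreX.ptS (coef (w x)) (l x) (hwu x) from 𝒰.ι_glueMorphisms _ _ x]
  have h1 : HasCoords π (pullback.snd g (F x) ≫ F x) (fun i a => (pullback.fst g (F x)).appTop (t i a)) := by
    rw [← pullback.condition]
    exact ht.comp π _
  rw [key x _ _ h1 k (by rw [← coef_map (pullback.fst g (F x)).appTop.hom]; exact hk.map _)]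
  congr 1
  funext a
  exact (coef_map (pullback.fst g (F x)).appTop.hom t a).symm

end Groth.Agent.P1Sym
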